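import Mathlib.RingTheory.DiscreteValuationRing.Basic
import Mathlib.RingTheory.IntegralDomain
import Mathlib.RingTheory.Filtration
import Mathlib.GroupTheory.SpecificGroups.Cyclic
import Mathlib.Algebra.Ring.Action.Basic
import Mathlib.RingTheory.LocalRing.ResidueField.Basic

/-!
# Tame inertia is cyclic

A finite group acting faithfully on a DVR, trivially on the residue field, with order prime to the
residue characteristic, is cyclic: `g ↦ g(π)/π mod m` is an injective character.
-/

set_option autoImplicit false
universe u v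

namespace Groth.Agent.Lib.Helper24.TameCyclic

open IsLocalRing

theorem main (O : Type u) [CommRing O] [IsDomain O] [IsDiscreteValuationRing O]
    (G : Type v) [Group G] [Finite G] [MulSemiringAction G O] [FaithfulSMul G O]
    (htriv : ∀ (g : G) (a : O), g • a - a ∈ maximalIdeal O)
    (hcard : ((Nat.card G : ℕ) : ResidueField O) ≠ 0) :
    IsCyclic G := by
  obtain ⟨ϖ, hϖ⟩ := IsDiscreteValuationRing.exists_irreducible O
  have hm : maximalIdeal O = Ideal.span {ϖ} := hϖ.maximalIdeal_eq
  have hϖ0 : ϖ ≠ 0 := hϖ.ne_zero
  have hmem : ∀ x, x ∈ maximalIdeal O ↔ ∃ a, x = a * ϖ := by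
    intro x
    rw [hm, Ideal.mem_span_singleton']
    constructor
    · rintro ⟨a, rfl⟩; exact ⟨a, rfl⟩
    · rintro ⟨a, rfl⟩; exact ⟨a, rfl⟩
  have hmemn : ∀ (n : ℕ) x, x ∈ maximalIdeal O ^ n ↔ ∃ a, x = a * ϖ ^ n := by
    intro n x
    rw [hm, Ideal.span_singleton_pow, Ideal.mem_span_singleton']
    constructor
    · rintro ⟨a, rfl⟩; exact ⟨a, rfl⟩
    · rintro ⟨a, rfl⟩; exact ⟨a, rfl⟩
  have hϖm : ϖ ∈ maximalIdeal O := (hmem ϖ).2 ⟨1, (one_mul _).symm⟩
  have hgϖ : ∀ g : G, ∃ a, g • ϖ = a * ϖ := by
    intro g
    have h1 := htriv g ϖ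
    have h3 : g • ϖ ∈ maximalIdeal O := by
      have := Ideal.add_mem _ h1 hϖm
      simpa using this
    exact (hmem _).1 h3
  choose u hu using hgϖ
  have hres : ∀ (g : G) x, residue O (g • x) = residue O x := by
    intro g x
    have := htriv g x
    rw [← sub_eq_zero, ← map_sub, residue_eq_zero_iff]
    exact this
  have hχ1 : residue O (u 1) = 1 := by
    have h1 : u 1 = 1 := by
      have h2 := hu 1
      rw [one_smul] at h2
      apply mul_right_cancel₀ hϖ0
      rw [one_mul]
      exact h2.symm
    rw [h1, map_one]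
  have hχmul : ∀ g h : G, residue O (u (g * h)) = residue O (u g) * residue O (u h) := by
    intro g h
    have h1 : u (g * h) = g • (u h) * u g := by
      apply mul_right_cancel₀ hϖ0
      rw [← hu (g * h), mul_smul, hu h, smul_mul', hu g]
      ring
    rw [h1, map_mul, hres, mul_comm]
  let χ₁ : G →* ResidueField O :=
    { toFun := fun g => residue O (u g), map_one' := hχ1, map_mul' := hχmul }
  have hχ₁ : ∀ g, χ₁ g = residue O (u g) := fun g => rfl
  -- the order of `G` is a unit
  have hNunit : IsUnit ((Nat.card G : ℕ) : O) := by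
    rw [← IsLocalRing.notMem_maximalIdeal, ← residue_eq_zero_iff, map_natCast]
    exact hcard
  -- kernel trivial
  have hker : ∀ g : G, residue O (u g) = 1 → g = 1 := by
    intro g hg
    have hA : ∀ (n : ℕ) b, b ∈ maximalIdeal O ^ n → g • b - b ∈ maximalIdeal O ^ (n + 1) := by
      intro n b hb
      obtain ⟨c, rfl⟩ := (hmemn n b).1 hb
      have h1 : g • c * u g ^ n - c ∈ maximalIdeal O := by
        rw [← residue_eq_zero_iff, map_sub, map_mul, map_pow, hres, hg, one_pow, mul_one,
          sub_self]
      obtain ⟨d, hd⟩ := (hmem _).1 h1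
      rw [hmemn]
      refine ⟨d, ?_⟩
      rw [smul_mul', smul_pow', hu g, mul_pow]
      linear_combination ϖ ^ n * hd
    have hpres : ∀ (n : ℕ) b, b ∈ maximalIdeal O ^ n → g • b ∈ maximalIdeal O ^ n := by
      intro n b hb
      have h1 := hA n b hb
      have h2 : maximalIdeal O ^ (n + 1) ≤ maximalIdeal O ^ n := Ideal.pow_le_pow_right (by omega)
      have := Ideal.add_mem _ (h2 h1) hb
      simpa using this
    have hB : ∀ n : ℕ, ∀ a : O, g • a - a ∈ maximalIdeal O ^ n := by
      intro n
      induction n with
      | zero => intro a; simp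
      | succ n ih =>
        intro a
        have hC : ∀ j : ℕ, (g ^ j) • a - a - j • (g • a - a) ∈ maximalIdeal O ^ (n + 1) := by
          intro j
          induction j with
          | zero => simp
          | succ j ihj =>
            have e1 : (g ^ (j + 1)) • a - a - (j + 1) • (g • a - a) =
                g • ((g ^ j) • a - a - j • (g • a - a)) +
                  j • (g • (g • a - a) - (g • a - a)) := by
              rw [pow_succ', mul_smul, succ_nsmul]
              simp only [smul_sub, smul_comm g j]
              abel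
            rw [e1]
            apply Ideal.add_mem
            · exact hpres _ _ ihj
            · exact Submodule.smul_of_tower_mem _ j (hA n _ (ih a))
        have h1 := hC (Nat.card G)
        rw [pow_card_eq_one', one_smul, sub_self, zero_sub, neg_mem_iff, nsmul_eq_mul] at h1
        exact (Ideal.unit_mul_mem_iff_mem _ hNunit).1 h1
    have hall : ∀ a : O, g • a = a := by
      intro a
      have h1 : g • a - a ∈ (⨅ n : ℕ, maximalIdeal O ^ n : Ideal O) := by
        rw [Ideal.mem_iInf]
        intro n
        exact hB n a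
      rw [Ideal.iInf_pow_eq_bot_of_isLocalRing _ (Ideal.IsPrime.ne_top'), Ideal.mem_bot,
        sub_eq_zero] at h1
      exact h1
    apply eq_of_smul_eq_smul (α := O)
    intro a
    rw [hall a, one_smul]
  apply isCyclic_of_injective_ringHom χ₁
  intro g h hgh
  rw [hχ₁, hχ₁] at hgh
  have h1 : residue O (u (g⁻¹ * h)) = 1 := by
    rw [hχmul, ← hgh, ← hχmul, inv_mul_cancel, hχ1]
  have h2 := hker _ h1
  exact (inv_mul_eq_one.mp h2)

end Groth.Agent.Lib.Helper24.TameCyclic
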